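import Mathlib
import Cfsg.Prelude.Def_OddOrderLocal
import Cfsg.Agent.FGS75.FitRank.Residual
import Cfsg.Agent.S1476
import Cfsg.Agent.PGroup.Basic

/-!
Groups whose element centralizers are TI-subsets: the centralizers are nilpotent; the solvable case.
-/

set_option autoImplicit false
set_option maxHeartbeats 1000000

namespace Cfsg.Agent.FGS75.TICent

open FitRank (El)

variable {G : Type*} [Group G]

/-- Every centralizer is a TI-subset. -/
def TIC (G : Type*) [Group G] : Prop :=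
  ∀ x : G, Cfsg.IsTISubset (Subgroup.centralizer ({x} : Set G) : Set G)

theorem mem_cent {x c : G} : c ∈ Subgroup.centralizer ({x} : Set G) ↔ c * x = x * c :=
  Subgroup.mem_centralizer_singleton_iff

theorem conj_comm {a b : G} (g : G) (h : a * b = b * a) :
    (g * a * g⁻¹) * (g * b * g⁻¹) = (g * b * g⁻¹) * (g * a * g⁻¹) := by
  calc (g * a * g⁻¹) * (g * b * g⁻¹) = g * (a * b) * g⁻¹ := by group
    _ = g * (b * a) * g⁻¹ := by rw [h]
    _ = (g * b * g⁻¹) * (g * a * g⁻¹) := by group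

theorem conj_fix {a h : G} (e : h * a = a * h) : h * a * h⁻¹ = a := by
  rw [e, mul_inv_cancel_right]

theorem norm_of_mem (hTI : TIC G) {x a g : G} (ha : a * x = x * a)
    (hga : (g * a * g⁻¹) * x = x * (g * a * g⁻¹)) (ha1 : a ≠ 1) :
    g ∈ Subgroup.normalizer (Subgroup.centralizer ({x} : Set G) : Set G) := by
  by_contra hg
  exact ha1 (hTI x g hg a (mem_cent.mpr ha) (mem_cent.mpr hga))

theorem cent_normalizes (hTI : TIC G) {x y h : G} (hx : x ≠ 1) (hy : y * x = x * y)
    (hh : h * x = x * h) :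
    h ∈ Subgroup.normalizer (Subgroup.centralizer ({y} : Set G) : Set G) :=
  norm_of_mem hTI hy.symm (by rw [conj_fix hh]; exact hy.symm) hx

theorem conj_comm_self (hTI : TIC G) {x y h : G} (hx : x ≠ 1) (hy : y * x = x * y)
    (hh : h * x = x * h) : (h * y * h⁻¹) * y = y * (h * y * h⁻¹) :=
  mem_cent.mp ((Subgroup.mem_normalizer_iff.mp (cent_normalizes hTI hx hy hh) y).mp
    (mem_cent.mpr rfl))

/-- A group in which every element commutes with its conjugates is nilpotent. -/
theorem isNilpotent_of_conj_comm [Finite G] (h : ∀ y g : G, (g * y * g⁻¹) * y = y * (g * y * g⁻¹)) :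
    Group.IsNilpotent G := by
  rw [← Cores.fittingSubgroup_eq_top_iff, eq_top_iff]
  intro y _
  refine Cores.le_fittingSubgroup (N := Subgroup.normalClosure {y}) inferInstance ?_
    (Subgroup.subset_normalClosure rfl)
  have h0 : ∀ a ∈ Group.conjugatesOfSet ({y} : Set G), ∀ b ∈ Group.conjugatesOfSet ({y} : Set G),
      a * b = b * a := by
    intro a ha b hb
    simp only [Group.mem_conjugatesOfSet_iff, Set.mem_singleton_iff, exists_eq_left] at ha hb
    obtain ⟨c, rfl⟩ := isConj_iff.mp ha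
    obtain ⟨d, rfl⟩ := isConj_iff.mp hb
    have e := conj_comm c (h y (c⁻¹ * d))
    rw [show c * (c⁻¹ * d * y * (c⁻¹ * d)⁻¹) * c⁻¹ = d * y * d⁻¹ by group] at e
    exact e.symm
  have hle : Subgroup.closure (Group.conjugatesOfSet ({y} : Set G)) ≤
      Subgroup.centralizer (Subgroup.closure (Group.conjugatesOfSet ({y} : Set G)) : Set G) := by
    rw [Subgroup.centralizer_closure]
    exact (Subgroup.closure_le _).mpr fun a ha => Subgroup.mem_centralizer_iff.mpr fun b hb =>
      h0 b hb a ha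
  haveI : IsMulCommutative (Subgroup.normalClosure ({y} : Set G)) :=
    isMulCommutative_iff.mpr fun a b => Subtype.ext
      (Subgroup.mem_centralizer_iff.mp (hle b.2) a.1 a.2)
  exact Cores.isNilpotent_of_commutator_commutator_eq_bot (by
    rw [show Subgroup.normalClosure ({y} : Set G) =
      Subgroup.closure (Group.conjugatesOfSet ({y} : Set G)) from rfl,
      Subgroup.commutator_eq_bot_iff_le_centralizer.mpr hle]
    exact le_bot_iff.mp (Subgroup.commutator_le.mpr fun a ha b _ => by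
      rw [Subgroup.mem_bot.mp ha, commutatorElement_one_left]; exact one_mem _))

theorem isNilpotent_cent [Finite G] (hTI : TIC G) {x : G} (hx : x ≠ 1) :
    Group.IsNilpotent (Subgroup.centralizer ({x} : Set G)) :=
  isNilpotent_of_conj_comm fun y g =>
    Subtype.ext (conj_comm_self hTI hx (mem_cent.mp y.2) (mem_cent.mp g.2))

theorem isCN [Finite G] (hTI : TIC G) : Cfsg.IsCNGroup G := fun _ hg => isNilpotent_cent hTI hg

theorem isNilpotent_of_center [Finite G] (hTI : TIC G) {z : G} (hz : z ∈ Subgroup.center G)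
    (hz1 : z ≠ 1) : Group.IsNilpotent G :=
  isNilpotent_of_conj_comm fun y g => conj_comm_self hTI hz1 (Subgroup.mem_center_iff.mp hz y)
    (Subgroup.mem_center_iff.mp hz g)

/-- In a nilpotent subgroup elements of coprime prime power orders commute. -/
theorem comm_of_el [Finite G] {K : Subgroup G} (hK : Group.IsNilpotent K) {r s : ℕ} (hr : r.Prime)
    (hs : s.Prime) (hrs : r ≠ s) {a b : G} (ha : a ∈ K) (hb : b ∈ K) (har : El r a)
    (hbs : El s b) : a * b = b * a := by
  haveI : Fact r.Prime := ⟨hr⟩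
  haveI : Fact s.Prime := ⟨hs⟩
  haveI := hK
  have h1 := FitRank.mem_pCore_of_el (El.of_coe (z := (⟨a, ha⟩ : K)) har)
  have h2 := FitRank.mem_pCore_of_el (El.of_coe (z := (⟨b, hb⟩ : K)) hbs)
  exact congrArg Subtype.val (Subgroup.commute_of_normal_of_disjoint _ _ inferInstance inferInstance
    (IsPGroup.disjoint_of_ne r s hrs _ _ Cores.pCore_isPGroup Cores.pCore_isPGroup) _ _ h1 h2)

/-- A nilpotent subgroup normalized by a Sylow `p`-subgroup has all its `p`-elements in it. -/
theorem el_mem_sylow [Finite G] {p : ℕ} [Fact p.Prime] (S : Sylow p G) {K : Subgroup G}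
    (hK : Group.IsNilpotent K) (hSK : (S : Subgroup G) ≤ Subgroup.normalizer (K : Set G)) {a : G}
    (ha : a ∈ K) (hap : El p a) : a ∈ (S : Subgroup G) := by
  set Q := Subgroup.closure {w : G | w ∈ K ∧ El p w} with hQ
  haveI := hK
  have hQp : IsPGroup p Q := by
    refine (Cores.pCore_isPGroup.map K.subtype).to_le ((Subgroup.closure_le _).mpr ?_)
    rintro w ⟨hw, hwr⟩
    exact ⟨⟨w, hw⟩, FitRank.mem_pCore_of_el (El.of_coe (z := (⟨w, hw⟩ : K)) hwr), rfl⟩
  have hSQ : (S : Subgroup G) ≤ Subgroup.normalizer (Q : Set G) := fun g hg => by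
    have key : ∀ c ∈ (S : Subgroup G), ∀ w ∈ Q, c * w * c⁻¹ ∈ Q := by
      intro c hc w hw
      have hle : Q ≤ Q.comap (MulAut.conj c).toMonoidHom := (Subgroup.closure_le _).mpr fun v hv =>
        Subgroup.subset_closure
          ⟨(Subgroup.mem_normalizer_iff.mp (hSK hc) v).mp hv.1, hv.2.conj c⟩
      exact hle hw
    refine Subgroup.mem_normalizer_iff.mpr fun w => ⟨key g hg w, fun hw => ?_⟩
    have := key g⁻¹ (inv_mem hg) _ hw
    rwa [show g⁻¹ * (g * w * g⁻¹) * g⁻¹⁻¹ = w by group] at this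
  have h1 := S.is_maximal' (IsPGroup.to_sup_of_normal_right' S.isPGroup' hQp hSQ) le_sup_left
  exact h1.le (Subgroup.mem_sup_right (Subgroup.subset_closure ⟨ha, hap⟩))

/-- A three-step group has a centralizer which is not a TI-subset. -/
theorem not_threeStep [Finite G] (hTI : TIC G) {p : ℕ} (hp : p.Prime) :
    ¬ Cfsg.IsThreeStepGroup p G := by
  rintro ⟨hO, A, hA1, -, -, hAp, hn, hne, ⟨n, hidx⟩, hfpf, hlast⟩
  haveI : Fact p.Prime := ⟨hp⟩
  obtain ⟨P⟩ := (inferInstance : Nonempty (Sylow p G))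
  set O := Cfsg.pCore p G with hOdef
  have hOP : O ≤ (P : Subgroup G) := by
    obtain ⟨Q, hQ⟩ := (Cores.pCore_isPGroup (p := p) (G := G)).exists_le_sylow
    obtain ⟨g, hg⟩ := MulAction.exists_smul_eq G Q P
    intro x hx
    rw [← hg, Sylow.coe_subgroup_smul, Subgroup.mem_pointwise_smul_iff_inv_smul_mem,
      ← map_inv, MulAut.smul_def, MulAut.conj_apply]
    exact hQ (((inferInstance : O.Normal).conj_mem x hx g⁻¹))
  obtain ⟨x, hxP, hxN⟩ : ∃ x ∈ (P : Subgroup G), x ∉ O ⊔ A := by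
    by_contra hc
    push Not at hc
    have h1 : (O ⊔ A).index ∣ (P : Subgroup G).index := Subgroup.index_dvd_of_le hc
    rcases Nat.eq_zero_or_pos n with rfl | hn0
    · rw [pow_zero, Subgroup.index_eq_one] at hidx
      exact hne hidx
    · exact P.not_dvd_index ((dvd_pow_self p hn0.ne').trans (hidx ▸ h1))
  obtain ⟨a, haA, ha1⟩ : ∃ a ∈ A, a ≠ 1 := by
    by_contra hc
    push Not at hc
    exact hA1 ((Subgroup.eq_bot_iff_forall _).mpr hc)
  -- a central element of `P` in `O`
  have hOn : (O.subgroupOf P).Normal := Subgroup.Normal.subgroupOf inferInstance _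
  haveI : Nontrivial (P : Subgroup G) := ⟨⟨⟨x, hxP⟩, 1, fun e => hxN (by
    rw [show x = 1 from congrArg Subtype.val e]; exact one_mem _)⟩⟩
  obtain ⟨z, hzO, hzc, hz1⟩ : ∃ z ∈ O, (∀ w ∈ (P : Subgroup G), z * w = w * z) ∧ z ≠ 1 := by
    obtain ⟨o, ho, ho1⟩ : ∃ o ∈ O, o ≠ 1 := by
      by_contra hc
      push Not at hc
      exact hO ((Subgroup.eq_bot_iff_forall _).mpr hc)
    haveI : Nontrivial (O.subgroupOf P) :=
      ⟨⟨⟨⟨o, hOP ho⟩, ho⟩, 1, fun e =>
        ho1 (congrArg (fun w : O.subgroupOf P => ((w : (P : Subgroup G)) : G)) e)⟩⟩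
    haveI := hOn
    haveI := (Subgroup.nontrivial_iff_ne_bot _).mpr
      (PGroup.inf_center_ne_bot P.isPGroup' (O.subgroupOf P)
        ((Subgroup.nontrivial_iff_ne_bot _).mp inferInstance))
    obtain ⟨⟨z, hz⟩, hz1⟩ := exists_ne (1 : (O.subgroupOf P ⊓ Subgroup.center P : Subgroup P))
    exact ⟨z, hz.1, fun w hw => (congrArg Subtype.val (Subgroup.mem_center_iff.mp hz.2 ⟨w, hw⟩)).symm,
      fun e => hz1 (Subtype.ext (Subtype.ext e))⟩
  set K := Subgroup.centralizer ({z} : Set G) with hK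
  have haN : a ∈ Subgroup.normalizer (K : Set G) :=
    norm_of_mem hTI rfl (hzc _ (hOP ((inferInstance : O.Normal).conj_mem z hzO a))).symm hz1
  have hKnil : Group.IsNilpotent K := isNilpotent_cent hTI hz1
  have hxK : x ∈ K := mem_cent.mpr (hzc x hxP).symm
  have hxp : El p x := by
    obtain ⟨i, hi⟩ := P.isPGroup' ⟨x, hxP⟩
    exact ⟨i, congrArg Subtype.val hi⟩
  have hPK : (P : Subgroup G) ≤ Subgroup.normalizer (K : Set G) := fun w hw =>
    Subgroup.le_normalizer (mem_cent.mpr (hzc w hw).symm)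
  have h2 : a * x⁻¹ * a⁻¹ ∈ (P : Subgroup G) :=
    el_mem_sylow P hKnil hPK ((Subgroup.mem_normalizer_iff.mp haN x⁻¹).mp (inv_mem hxK))
      (hxp.inv.conj a)
  have hcP : x * a * x⁻¹ * a⁻¹ ∈ (P : Subgroup G) := by
    rw [show x * a * x⁻¹ * a⁻¹ = x * (a * x⁻¹ * a⁻¹) by group]
    exact mul_mem hxP h2
  have haOA : a ∈ O ⊔ A := Subgroup.mem_sup_right haA
  have hcN : x * a * x⁻¹ * a⁻¹ ∈ O ⊔ A := mul_mem (hn.conj_mem a haOA x) (inv_mem haOA)
  apply hlast x hxN a haA ha1
  obtain ⟨o, ho, b, hb, e⟩ := Subgroup.mem_sup_of_normal_left.mp hcN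
  have hbP : b ∈ (P : Subgroup G) := by
    rw [show b = o⁻¹ * (x * a * x⁻¹ * a⁻¹) by rw [← e]; group]
    exact mul_mem (inv_mem (hOP ho)) hcP
  have hb1 : b = 1 := by
    obtain ⟨i, hi⟩ := P.isPGroup' ⟨b, hbP⟩
    exact FitRank.eq_one_of_coprime_el (orderOf_dvd_iff_pow_eq_one.mp
      (Subgroup.orderOf_dvd_natCard A hb)) hAp ⟨i, congrArg Subtype.val hi⟩
  rw [← e, hb1, mul_one]
  exact ho

theorem quaternion_exponent_le (hTI : TIC G) {Q : Subgroup G} {n : ℕ}
    (e : Q ≃* QuaternionGroup (2 ^ n)) : n ≤ 1 := by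
  by_contra hn
  push Not at hn
  haveI : NeZero (2 ^ n) := ⟨(pow_pos (by norm_num) n).ne'⟩
  set z : QuaternionGroup (2 ^ n) := QuaternionGroup.a ((2 ^ n : ℕ) : ZMod (2 * 2 ^ n)) with hz
  set y : QuaternionGroup (2 ^ n) := QuaternionGroup.xa 0 with hy
  set h : QuaternionGroup (2 ^ n) := QuaternionGroup.a 1 with hh
  have h2N : ((2 ^ n : ℕ) : ZMod (2 * 2 ^ n)) + ((2 ^ n : ℕ) : ZMod (2 * 2 ^ n)) = 0 := by
    rw [← Nat.cast_add, ← two_mul, ZMod.natCast_self]
  have hz1 : z ≠ 1 := by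
    intro h0
    rw [hz, QuaternionGroup.one_def, QuaternionGroup.a.injEq,
      ZMod.natCast_eq_zero_iff] at h0
    have := Nat.le_of_dvd (pow_pos (by norm_num) n) h0
    have := pow_pos (show 0 < 2 by norm_num) n
    omega
  have hyz : y * z = z * y := by
    rw [hy, hz, QuaternionGroup.xa_mul_a, QuaternionGroup.a_mul_xa, QuaternionGroup.xa.injEq,
      zero_add, zero_sub, eq_neg_iff_add_eq_zero]
    exact h2N
  have hhz : h * z = z * h := by
    rw [hh, hz, QuaternionGroup.a_mul_a, QuaternionGroup.a_mul_a, add_comm]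
  have key : ((h * y * h⁻¹) * y : QuaternionGroup (2 ^ n)) = y * (h * y * h⁻¹) := by
    have h1 := conj_comm_self hTI (x := ((e.symm z : Q) : G)) (y := ((e.symm y : Q) : G))
      (h := ((e.symm h : Q) : G)) ?_ ?_ ?_
    · apply e.symm.injective
      apply Subtype.ext
      simpa only [map_mul, map_inv, Subgroup.coe_mul, Subgroup.coe_inv] using h1
    · intro e0
      exact hz1 (e.symm.injective (by rw [map_one]; exact Subtype.ext e0))
    · rw [← Subgroup.coe_mul, ← map_mul, hyz, map_mul, Subgroup.coe_mul]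
    · rw [← Subgroup.coe_mul, ← map_mul, hhz, map_mul, Subgroup.coe_mul]
  have hinv : h⁻¹ = QuaternionGroup.a (-1) := inv_eq_of_mul_eq_one_right (by
    rw [hh, QuaternionGroup.a_mul_a, add_neg_cancel, QuaternionGroup.one_def])
  rw [hinv, hh, hy, QuaternionGroup.a_mul_xa, QuaternionGroup.xa_mul_a,
    QuaternionGroup.xa_mul_xa, QuaternionGroup.xa_mul_xa, QuaternionGroup.a.injEq] at key
  have h4 : ((4 : ℕ) : ZMod (2 * 2 ^ n)) = 0 := by
    push_cast
    linear_combination key
  rw [ZMod.natCast_eq_zero_iff] at h4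
  have h5 := Nat.le_of_dvd (by norm_num) h4
  have : 2 ^ 2 ≤ 2 ^ n := Nat.pow_le_pow_right (by norm_num) hn
  omega

/-- The solvable case. -/
theorem solvable_case [Finite G] [Group.IsSolvable G] (hTI : TIC G) :
    Group.IsNilpotent G ∨
    ∃ H : Subgroup G, Cfsg.IsFrobeniusComplement H ∧
      (IsCyclic H ∨ ∃ m : ℕ, Odd m ∧ Nonempty (H ≃* Multiplicative (ZMod m) × QuaternionGroup 2)) := by
  rcases Cfsg.Agent.S1476.result (isCN hTI) with h | ⟨K, E, -, -, hE, hcase⟩ | ⟨p, hp, h⟩
  · exact Or.inl h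
  · refine Or.inr ⟨E, hE, ?_⟩
    rcases hcase with hc | ⟨C, Q, hCQ, hcomm, hC, hCodd, n, ⟨e⟩⟩
    · exact Or.inl hc
    have hcardQ : Nat.card Q = 4 * 2 ^ n := by
      rw [Nat.card_congr e.toEquiv]
      haveI : NeZero (2 ^ n) := ⟨(pow_pos (by norm_num) n).ne'⟩
      rw [Nat.card_eq_fintype_card, QuaternionGroup.card]
    let f : C × Q →* G := C.subtype.noncommCoprod Q.subtype fun c q => hcomm c c.2 q q.2
    have hcop : (Nat.card C).Coprime (Nat.card Q) := by
      rw [hcardQ, show 4 * 2 ^ n = 2 ^ (n + 2) by ring]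
      exact Nat.Coprime.pow_right _ (Nat.coprime_two_right.mpr hCodd)
    have hfinj : Function.Injective f := by
      rw [injective_iff_map_eq_one]
      rintro ⟨c, q⟩ hcq
      have hcq' : (c : G) * (q : G) = 1 := hcq
      have hq : (q : G) ∈ C := by
        rw [eq_inv_of_mul_eq_one_right hcq']
        exact inv_mem c.2
      have hq1 : (q : G) = 1 := orderOf_eq_one_iff.mp (Nat.eq_one_of_dvd_coprimes hcop
        (Subgroup.orderOf_dvd_natCard C hq) (Subgroup.orderOf_dvd_natCard Q q.2))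
      rw [hq1, mul_one] at hcq'
      exact Prod.ext (Subtype.ext hcq') (Subtype.ext hq1)
    have hrange : f.range = E := by
      refine le_antisymm ?_ ?_
      · rintro _ ⟨⟨c, q⟩, rfl⟩
        exact hCQ ▸ Subgroup.mul_mem_sup c.2 q.2
      · rw [← hCQ]
        refine sup_le (fun c hc => ⟨(⟨c, hc⟩, 1), ?_⟩) (fun q hq => ⟨(1, ⟨q, hq⟩), ?_⟩)
        · show c * ((1 : Q) : G) = c
          rw [OneMemClass.coe_one, mul_one]
        · show ((1 : C) : G) * q = q
          rw [OneMemClass.coe_one, one_mul]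
    let eE : C × Q ≃* E := (MonoidHom.ofInjective hfinj).trans (MulEquiv.subgroupCongr hrange)
    haveI := hC
    let eC : Multiplicative (ZMod (Nat.card C)) ≃* C := zmodCyclicMulEquiv hC
    have hn1 : n ≤ 1 := quaternion_exponent_le hTI e
    rcases Nat.le_one_iff_eq_zero_or_eq_one.mp hn1 with rfl | rfl
    · left
      haveI : IsCyclic Q := by
        haveI : IsCyclic (QuaternionGroup (2 ^ 0)) :=
          isCyclic_of_orderOf_eq_card (QuaternionGroup.xa 0) (by
            rw [QuaternionGroup.orderOf_xa, Nat.card_eq_fintype_card, QuaternionGroup.card]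
            norm_num)
        exact isCyclic_of_surjective e.symm e.symm.surjective
      haveI : IsCyclic (C × Q) := Group.isCyclic_prod_iff.mpr ⟨hC, inferInstance, hcop⟩
      exact isCyclic_of_surjective eE eE.surjective
    · exact Or.inr ⟨Nat.card C, hCodd, ⟨eE.symm.trans (eC.symm.prodCongr e)⟩⟩
  · exact absurd h (not_threeStep hTI hp)

end Cfsg.Agent.FGS75.TICent
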