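import Cfsg.Agent.FGS75.TICent.Strong
import Cfsg.Agent.S1224
import Cfsg.Agent.Coprime.Conj
import Cfsg.Prelude.Def_LieExceptional

/-!
The action on the cosets of the normalizer of a Sylow 2-subgroup is that of a Zassenhaus group.
-/

set_option autoImplicit false
set_option maxHeartbeats 1000000

namespace Cfsg.Agent.FGS75.TICent

variable {G : Type*} [Group G]

/-- The intersection of `N(S)` with its conjugate by `g`. -/
abbrev dd (S : Sylow 2 G) (g : G) : Subgroup G := nS S ⊓ (nS S).map (MulAut.conj g).toMonoidHom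

theorem mem_dd {S : Sylow 2 G} {g x : G} : x ∈ dd S g ↔ x ∈ nS S ∧ g⁻¹ * x * g ∈ nS S := by
  constructor
  · rintro ⟨hx, y, hy, rfl⟩
    refine ⟨hx, ?_⟩
    show g⁻¹ * (g * y * g⁻¹) * g ∈ _
    rwa [show g⁻¹ * (g * y * g⁻¹) * g = y by group]
  · rintro ⟨hx, hy⟩
    exact ⟨hx, _, hy, by show g * (g⁻¹ * x * g) * g⁻¹ = x; group⟩

theorem mk_eq {S : Sylow 2 G} {a b : G} :
    (QuotientGroup.mk a : G ⧸ nS S) = QuotientGroup.mk b ↔ a⁻¹ * b ∈ nS S := QuotientGroup.eq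

theorem mk_one_iff {S : Sylow 2 G} {a : G} :
    (QuotientGroup.mk a : G ⧸ nS S) = QuotientGroup.mk 1 ↔ a ∈ nS S := by
  rw [mk_eq, mul_one, inv_mem_iff]

theorem smul_one {S : Sylow 2 G} {a : G} :
    a • (QuotientGroup.mk 1 : G ⧸ nS S) = QuotientGroup.mk a := by
  show (QuotientGroup.mk (a * 1) : G ⧸ nS S) = _
  rw [mul_one]

theorem fix_one {S : Sylow 2 G} {a : G} :
    a • (QuotientGroup.mk 1 : G ⧸ nS S) = QuotientGroup.mk 1 ↔ a ∈ nS S := by
  rw [smul_one, mk_one_iff]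

theorem fix_iff {S : Sylow 2 G} {a g : G} :
    a • (QuotientGroup.mk g : G ⧸ nS S) = QuotientGroup.mk g ↔ g⁻¹ * a * g ∈ nS S := by
  show (QuotientGroup.mk (a * g) : G ⧸ nS S) = _ ↔ _
  rw [mk_eq, show (a * g)⁻¹ * g = (g⁻¹ * a * g)⁻¹ by group, inv_mem_iff]

theorem dd_congr {S : Sylow 2 G} {g g' : G}
    (h : (QuotientGroup.mk g : G ⧸ nS S) = QuotientGroup.mk g') : dd S g = dd S g' := by
  ext x
  rw [mem_dd, mem_dd, ← fix_iff (g := g), ← fix_iff (g := g'), h]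

/-- The number of involutions of `S`. -/
noncomputable def ni (S : Sylow 2 G) : ℕ := Nat.card {t : G // orderOf t = 2 ∧ t ∈ (S : Subgroup G)}

variable [Finite G] {S : Sylow 2 G} {z : G} (h : Dat S z)
include h

/-- The elements of order at most two of `S`. -/
def Dat.om (h : Dat S z) : Subgroup G where
  carrier := {s | s ∈ (S : Subgroup G) ∧ s * s = 1}
  one_mem' := ⟨one_mem _, one_mul 1⟩
  mul_mem' := by
    rintro a b ⟨ha, ha2⟩ ⟨hb, hb2⟩
    refine ⟨mul_mem ha hb, ?_⟩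
    by_cases ha1 : a = 1
    · rw [ha1, one_mul]; exact hb2
    calc a * b * (a * b) = a * (b * a) * b := by group
      _ = a * (a * b) * b := by rw [(h.of_involution ha2 ha1 ha).zc b hb]
      _ = a * a * (b * b) := by group
      _ = 1 := by rw [ha2, hb2, mul_one]
  inv_mem' := by
    rintro a ⟨ha, ha2⟩
    exact ⟨inv_mem ha, by rw [← mul_inv_rev, ha2, inv_one]⟩

theorem Dat.card_om : Nat.card h.om = ni S + 1 := by
  classical
  haveI : Fact (Nat.Prime 2) := ⟨Nat.prime_two⟩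
  have e : (h.om : Set G) = insert 1 {t : G | orderOf t = 2 ∧ t ∈ (S : Subgroup G)} := by
    ext t
    constructor
    · rintro ⟨ht, ht2⟩
      by_cases ht1 : t = 1
      · exact Or.inl ht1
      · exact Or.inr ⟨orderOf_eq_prime (by rw [pow_two, ht2]) ht1, ht⟩
    · rintro (rfl | ⟨ht2, ht⟩)
      · exact one_mem h.om
      · exact ⟨ht, by rw [← pow_two, ← ht2, pow_orderOf_eq_one]⟩
  rw [← SetLike.coe_sort_coe, e, Nat.card_coe_set_eq,
    Set.ncard_insert_of_notMem (fun h1 => by simpa using h1.1) (Set.toFinite _), ← Nat.card_coe_set_eq]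
  rfl

theorem Dat.ni_facts : Odd (ni S) ∧ 3 ≤ ni S := by
  classical
  haveI : Fact (Nat.Prime 2) := ⟨Nat.prime_two⟩
  have hle : h.om ≤ (S : Subgroup G) := fun s hs => hs.1
  obtain ⟨a, ha⟩ := IsPGroup.iff_card.mp (S.isPGroup'.to_le hle)
  rw [h.card_om] at ha
  obtain ⟨t, htS, ht, htz⟩ := exists_two_involutions h.tic h.ns S h.zS h.orderOf_z
  have h2 : 2 ≤ ni S := by
    have hc2 : Nat.card (({z, t} : Set G)) = 2 := by
      rw [Nat.card_coe_set_eq, Set.ncard_pair htz.symm]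
    refine le_of_eq_of_le hc2.symm ?_
    refine Nat.card_le_card_of_injective (fun w => ⟨w.1, ?_⟩) fun a b e =>
      Subtype.ext (congrArg Subtype.val e :)
    rcases w.2 with hw | hw <;> rw [hw]
    · exact ⟨h.orderOf_z, h.zS⟩
    · exact ⟨ht, htS⟩
  rcases a with _ | _ | a
  · omega
  · omega
  · have : 2 ^ (a + 2) = 4 * 2 ^ a := by ring
    have := Nat.one_le_two_pow (n := a)
    exact ⟨⟨2 * 2 ^ a - 1, by omega⟩, by omega⟩

theorem Dat.two_mul_self {t : G} (ht : orderOf t = 2) : t * t = 1 := by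
  rw [← pow_two, ← ht, pow_orderOf_eq_one]

theorem Dat.exists_conj_z {t : G} (ht : orderOf t = 2) : ∃ g, g * z * g⁻¹ = t :=
  isConj_iff.mp (h.involutions_conj h.orderOf_z ht)

theorem Dat.eq_one_of_dd_cz {g d : G} (hg : g ∉ nS S) (hd : d ∈ dd S g) (hdz : d * z = z * d) :
    d = 1 := by
  have h1 := h.inter_eq_one (g := g⁻¹) (x := g⁻¹ * d * g) (fun e => hg (by simpa using inv_mem e))
    (mem_dd.mp hd).2 (by
      have := conj_comm g⁻¹ hdz
      rwa [show g⁻¹ * d * g⁻¹⁻¹ = g⁻¹ * d * g by group] at this)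
  calc d = g * (g⁻¹ * d * g) * g⁻¹ := by group
    _ = 1 := by rw [h1, mul_one, mul_inv_cancel]

theorem Dat.inverts {u : G} (hu : orderOf u = 2) (huM : u ∉ nS S) :
    ∀ d ∈ dd S u, u * d * u⁻¹ = d⁻¹ := by
  have hu2 := h.two_mul_self hu
  have hui : u⁻¹ = u := inv_eq_of_mul_eq_one_right hu2
  refine SelfNorm.inverts_of_fpf hu2 (fun d hd => ?_) fun d hd e => ?_
  · rw [mem_dd] at hd ⊢
    refine ⟨?_, ?_⟩
    · rw [hui]
      have := hd.2
      rwa [hui] at this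
    · rw [show u⁻¹ * (u * d * u⁻¹) * u = d by group]
      exact hd.1
  · obtain ⟨g, hg⟩ := h.exists_conj_z hu
    have hgM : g ∉ nS S := fun hgm => huM (by
      rw [← hg]
      exact mul_mem (mul_mem hgm (Subgroup.le_normalizer h.zS)) (inv_mem hgm))
    exact h.inter_eq_one hgM hd.1 (by rw [hg]; exact e.symm)

theorem Dat.exists_swap {g : G} (hg : g ∉ nS S) : ∃ u : G, orderOf u = 2 ∧ u ∉ nS S ∧
    (QuotientGroup.mk u : G ⧸ nS S) = QuotientGroup.mk g := by
  have hne : (QuotientGroup.mk 1 : G ⧸ nS S) ≠ QuotientGroup.mk g := fun e =>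
    hg (mk_one_iff.mp e.symm)
  have hc := Cfsg.Agent.S1224.result (nS S) h.stronglyEmbedded _ _ hne
  haveI : Nonempty {t : G // orderOf t = 2 ∧ t ∈ nS S} :=
    ⟨⟨z, h.orderOf_z, Subgroup.le_normalizer h.zS⟩⟩
  have hpos : 0 < Nat.card {i : G // orderOf i = 2 ∧
      i • (QuotientGroup.mk 1 : G ⧸ nS S) = QuotientGroup.mk g} := by
    rw [hc]; exact Nat.card_pos
  obtain ⟨⟨u, hu, hu'⟩⟩ := (Nat.card_pos_iff.mp hpos).1
  rw [smul_one] at hu'
  exact ⟨u, hu, fun huM => hg (mk_one_iff.mp (hu'.symm.trans (mk_one_iff.mpr huM))), hu'⟩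

theorem Dat.card_swap {x y : G ⧸ nS S} (hxy : x ≠ y) :
    Nat.card {i : G // orderOf i = 2 ∧ i • x = y} = ni S := by
  rw [Cfsg.Agent.S1224.result (nS S) h.stronglyEmbedded x y hxy]
  exact Nat.card_congr (Equiv.subtypeEquivRight fun t =>
    ⟨fun ⟨h1, h2⟩ => ⟨h1, h.two_mem (h.two_mul_self h1) h2⟩,
      fun ⟨h1, h2⟩ => ⟨h1, Subgroup.le_normalizer h2⟩⟩)

theorem Dat.dd_trans {g : G} (hg : g ∉ nS S) {t : G} (ht : orderOf t = 2)
    (htS : t ∈ (S : Subgroup G)) : ∃ d ∈ dd S g, d * z * d⁻¹ = t := by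
  obtain ⟨u, hu, huM, e⟩ := h.exists_swap hg
  rw [← dd_congr e]
  exact h.conj_trans h.orderOf_z h.zS ht htS hu huM

theorem Dat.card_dd {g : G} (hg : g ∉ nS S) : Nat.card (dd S g) = ni S := by
  have hmem : ∀ d : dd S g, orderOf ((d : G) * z * (d : G)⁻¹) = 2 ∧
      (d : G) * z * (d : G)⁻¹ ∈ (S : Subgroup G) := fun d =>
    ⟨by
      rw [← h.orderOf_z]
      exact orderOf_injective (MulAut.conj (d : G)).toMonoidHom (MulAut.conj (d : G)).injective z,
    (Subgroup.mem_normalizer_iff.mp d.2.1 z).mp h.zS⟩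
  refine Nat.card_congr (Equiv.ofBijective
    (fun d : dd S g => (⟨_, hmem d⟩ : {t : G // orderOf t = 2 ∧ t ∈ (S : Subgroup G)})) ⟨?_, ?_⟩)
  · intro d e he
    have he' : (d : G) * z * (d : G)⁻¹ = (e : G) * z * (e : G)⁻¹ := congrArg Subtype.val he
    have h1 : ((e : G)⁻¹ * d) * z = z * ((e : G)⁻¹ * d) := by
      calc ((e : G)⁻¹ * d) * z = (e : G)⁻¹ * ((d : G) * z * (d : G)⁻¹) * d := by group
        _ = (e : G)⁻¹ * ((e : G) * z * (e : G)⁻¹) * d := by rw [he']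
        _ = z * ((e : G)⁻¹ * d) := by group
    have := h.eq_one_of_dd_cz hg (mul_mem (inv_mem e.2) d.2) h1
    exact (Subtype.ext (inv_mul_eq_one.mp this)).symm
  · rintro ⟨t, ht, htS⟩
    obtain ⟨d, hd, e⟩ := h.dd_trans hg ht htS
    exact ⟨⟨d, hd⟩, Subtype.ext e⟩

theorem Dat.dd_odd {g : G} (hg : g ∉ nS S) {d : G} (hd : d ∈ dd S g) : Odd (orderOf d) :=
  h.ni_facts.1.of_dvd_nat (h.card_dd hg ▸ Subgroup.orderOf_dvd_natCard _ hd)

theorem Dat.dd_comm {g : G} (hg : g ∉ nS S) {d e : G} (hd : d ∈ dd S g) (he : e ∈ dd S g) :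
    d * e = e * d := by
  obtain ⟨u, hu, huM, eq⟩ := h.exists_swap hg
  rw [← dd_congr eq] at hd he
  have h1 := h.inverts hu huM _ (mul_mem hd he)
  have h2 : u * (d * e) * u⁻¹ = (u * d * u⁻¹) * (u * e * u⁻¹) := by group
  rw [h2, h.inverts hu huM d hd, h.inverts hu huM e he] at h1
  calc d * e = ((d * e)⁻¹)⁻¹ := (inv_inv _).symm
    _ = (d⁻¹ * e⁻¹)⁻¹ := by rw [h1]
    _ = e * d := by group

theorem Dat.decomp {g : G} (hg : g ∉ nS S) {m : G} (hm : m ∈ nS S) :
    ∃ d ∈ dd S g, d⁻¹ * m ∈ cz z := by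
  obtain ⟨d, hd, e⟩ := h.dd_trans hg (t := m * z * m⁻¹)
    (by
      rw [← h.orderOf_z]
      exact orderOf_injective (MulAut.conj m).toMonoidHom (MulAut.conj m).injective z)
    ((Subgroup.mem_normalizer_iff.mp hm z).mp h.zS)
  refine ⟨d, hd, mem_cent.mpr ?_⟩
  calc d⁻¹ * m * z = d⁻¹ * (m * z * m⁻¹) * m := by group
    _ = d⁻¹ * (d * z * d⁻¹) * m := by rw [e]
    _ = z * (d⁻¹ * m) := by group

theorem Dat.sup_eq {g : G} (hg : g ∉ nS S) : dd S g ⊔ cz z = nS S := by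
  refine le_antisymm (sup_le inf_le_left h.cz_le_nS) fun m hm => ?_
  obtain ⟨d, hd, e⟩ := h.decomp hg hm
  rw [show m = d * (d⁻¹ * m) by group]
  exact Subgroup.mul_mem_sup hd e

theorem Dat.card_nS {g : G} (hg : g ∉ nS S) : Nat.card (nS S) = ni S * Nat.card (cz z) := by
  rw [← h.card_dd hg, ← Nat.card_prod]
  refine (Nat.card_congr (Equiv.ofBijective
    (fun w : dd S g × cz z => (⟨(w.1 : G) * w.2, mul_mem w.1.2.1 (h.cz_le_nS w.2.2)⟩ : nS S))
    ⟨?_, ?_⟩)).symm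
  · rintro ⟨d, c⟩ ⟨e, c'⟩ he
    have he' : (d : G) * c = (e : G) * c' := congrArg Subtype.val he
    have h1 : (e : G)⁻¹ * d = (c' : G) * (c : G)⁻¹ := by
      calc (e : G)⁻¹ * d = (e : G)⁻¹ * ((d : G) * c) * (c : G)⁻¹ := by group
        _ = (e : G)⁻¹ * ((e : G) * c') * (c : G)⁻¹ := by rw [he']
        _ = (c' : G) * (c : G)⁻¹ := by group
    have h2 := h.eq_one_of_dd_cz hg (mul_mem (inv_mem e.2) d.2)
      (mem_cent.mp (h1 ▸ mul_mem c'.2 (inv_mem c.2) : (e : G)⁻¹ * d ∈ cz z))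
    have hde : d = e := (Subtype.ext (inv_mul_eq_one.mp h2)).symm
    rw [hde] at he'
    exact Prod.ext hde (Subtype.ext (mul_left_cancel he'))
  · rintro ⟨m, hm⟩
    obtain ⟨d, hd, e⟩ := h.decomp hg hm
    exact ⟨(⟨d, hd⟩, ⟨_, e⟩), Subtype.ext (mul_inv_cancel_left d m)⟩

theorem Dat.coprime_ni : (ni S).Coprime (Nat.card (cz z)) := by
  obtain ⟨g, -, hg⟩ := h.exists_outer
  refine (h.coprime_index.coprime_dvd_right ⟨(nS S).index, ?_⟩).symm
  have hn := h.card_nS hg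
  have h1 := (nS S).card_mul_index
  rw [hn] at h1
  have h2 := (cz z).card_mul_index
  rw [← h1] at h2
  exact Nat.eq_of_mul_eq_mul_left Nat.card_pos (h2.trans (by ring))

theorem Dat.cent_inter {g : G} (hg : g ∉ nS S) {d : G} (hd : d ∈ dd S g) (hd1 : d ≠ 1) {c : G}
    (hc : c ∈ nS S) (hcd : c * d = d * c) : c ∈ dd S g := by
  obtain ⟨e, he, hk⟩ := h.decomp hg hc
  by_cases hk1 : e⁻¹ * c = 1
  · rwa [← inv_mul_eq_one.mp hk1]
  exfalso
  have hkd : (e⁻¹ * c) * d = d * (e⁻¹ * c) :=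
    ((show Commute (e⁻¹) d from (show Commute e d from h.dd_comm hg he hd).inv_left).mul_left hcd).eq
  exact hd1 (h.eq_one_of_dd_cz hg hd
    (mem_cent.mp (h.cent_le (mem_cent.mp hk) hk1 (mem_cent.mpr hkd.symm))))

theorem Dat.cent_inverted {u : G} (hu : orderOf u = 2) (huM : u ∉ nS S) {d : G}
    (hd : d ∈ dd S u) (hd1 : d ≠ 1) :
    ∀ c ∈ Subgroup.centralizer ({d} : Set G), u * c * u⁻¹ = c⁻¹ := by
  have hinv := h.inverts hu huM d hd
  refine SelfNorm.inverts_of_fpf (h.two_mul_self hu) (fun c hc => mem_cent.mpr ?_) fun c hc e => ?_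
  · have h1 := conj_comm u (mem_cent.mp hc)
    rw [hinv] at h1
    exact (Commute.inv_right_iff.mp h1).eq
  · by_contra hc1
    obtain ⟨g, hg⟩ := h.exists_conj_z hu
    have hgM : g ∉ nS S := fun hgm => huM (by
      rw [← hg]
      exact mul_mem (mul_mem hgm (Subgroup.le_normalizer h.zS)) (inv_mem hgm))
    have hc' : (g⁻¹ * c * g) * z = z * (g⁻¹ * c * g) := by
      have h1 := conj_comm g⁻¹ (show c * (g * z * g⁻¹) = (g * z * g⁻¹) * c by rw [hg]; exact e.symm)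
      rwa [show g⁻¹ * c * g⁻¹⁻¹ = g⁻¹ * c * g by group,
        show g⁻¹ * (g * z * g⁻¹) * g⁻¹⁻¹ = z by group] at h1
    have hne : g⁻¹ * c * g ≠ 1 := fun e' => hc1 (by
      calc c = g * (g⁻¹ * c * g) * g⁻¹ := by group
        _ = 1 := by rw [e', mul_one, mul_inv_cancel])
    have hd' : (g⁻¹ * d * g) * (g⁻¹ * c * g) = (g⁻¹ * c * g) * (g⁻¹ * d * g) := by
      have := conj_comm g⁻¹ (mem_cent.mp hc).symm
      rwa [show g⁻¹ * d * g⁻¹⁻¹ = g⁻¹ * d * g by group,
        show g⁻¹ * c * g⁻¹⁻¹ = g⁻¹ * c * g by group] at this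
    have hdz := conj_comm g (mem_cent.mp (h.cent_le hc' hne (mem_cent.mpr hd')))
    rw [show g * (g⁻¹ * d * g) * g⁻¹ = d by group] at hdz
    exact hd1 (h.inter_eq_one hgM hd.1 hdz)

theorem Dat.inverting_of_mem {g v : G} (hg : g ∉ nS S) {d : G} (hd : d ∈ dd S g)
    (hv : orderOf v = 2)
    (hvg : v • (QuotientGroup.mk 1 : G ⧸ nS S) = QuotientGroup.mk g) : v * d * v⁻¹ = d⁻¹ := by
  rw [smul_one] at hvg
  exact h.inverts hv (fun hvM => hg (mk_one_iff.mp (hvg.symm.trans (mk_one_iff.mpr hvM)))) d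
    (dd_congr hvg ▸ hd)

theorem Dat.card_cent {u : G} (hu : orderOf u = 2) (huM : u ∉ nS S) {d : G} (hd : d ∈ dd S u)
    (hd1 : d ≠ 1) :
    Nat.card (Subgroup.centralizer ({d} : Set G)) =
      ni S * (Nat.card {x : G ⧸ nS S // d • x = x} - 1) := by
  classical
  set E := Subgroup.centralizer ({d} : Set G) with hE
  have hu2 := h.two_mul_self hu
  have hodd := h.dd_odd huM hd
  have hdd : d⁻¹ ≠ d := fun e => hd1 (SelfNorm.eq_one_of_odd_of_pow hodd (k := 1) (by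
    rw [pow_one, pow_two]; exact mul_eq_one_iff_eq_inv.mpr e.symm))
  have hinvE := h.cent_inverted hu huM hd hd1
  let V := {v : G // orderOf v = 2 ∧ v * d * v⁻¹ = d⁻¹}
  have hEV : Nat.card E = Nat.card V := by
    refine Nat.card_congr (Equiv.ofBijective (fun c : E => (⟨(c : G) * u, ?_, ?_⟩ : V)) ⟨?_, ?_⟩)
    · refine orderOf_eq_prime (hp := ⟨Nat.prime_two⟩) ?_ fun e => ?_
      · rw [pow_two]
        calc (c : G) * u * ((c : G) * u) = (c : G) * (u * c * u⁻¹) * (u * u) := by group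
          _ = 1 := by rw [hinvE c c.2, hu2, mul_one, mul_inv_cancel]
      · have hu' : u = (c : G)⁻¹ := eq_inv_of_mul_eq_one_right e
        have h1 : u ∈ E := hu' ▸ inv_mem c.2
        have h2 := h.inverts hu huM d hd
        rw [conj_fix (mem_cent.mp h1)] at h2
        exact hdd h2.symm
    · rw [show (c : G) * u * d * ((c : G) * u)⁻¹ = (c : G) * (u * d * u⁻¹) * (c : G)⁻¹ by group,
        h.inverts hu huM d hd]
      exact conj_fix (show (c : G) * d⁻¹ = d⁻¹ * c from (Commute.inv_right (mem_cent.mp c.2)).eq)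
    · intro a b e
      exact Subtype.ext (mul_right_cancel (congrArg Subtype.val e : (a : G) * u = (b : G) * u))
    · rintro ⟨v, hv, hvd⟩
      refine ⟨⟨v * u⁻¹, mem_cent.mpr ?_⟩, Subtype.ext (inv_mul_cancel_right v u)⟩
      refine mul_inv_eq_iff_eq_mul.mp ?_
      calc v * u⁻¹ * d * (v * u⁻¹)⁻¹ = v * (u⁻¹ * d * u) * v⁻¹ := by group
        _ = v * (u * d * u⁻¹) * v⁻¹ := by rw [inv_eq_of_mul_eq_one_right hu2]
        _ = (v * d * v⁻¹)⁻¹ := by rw [h.inverts hu huM d hd]; group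
        _ = d := by rw [hvd, inv_inv]
  let Y := {x : G ⧸ nS S // d • x = x ∧ x ≠ QuotientGroup.mk 1}
  have hd1x : d • (QuotientGroup.mk 1 : G ⧸ nS S) = QuotientGroup.mk 1 := fix_one.mpr hd.1
  have hvY : ∀ v : V, d • (v.1 • (QuotientGroup.mk 1 : G ⧸ nS S)) = v.1 • QuotientGroup.mk 1 ∧
      v.1 • (QuotientGroup.mk 1 : G ⧸ nS S) ≠ QuotientGroup.mk 1 := by
    rintro ⟨v, hv, hvd⟩
    refine ⟨?_, fun e => ?_⟩
    · have e1 : d * v = v * d⁻¹ := by
        have : v * d⁻¹ * v⁻¹ = d := by rw [← conj_inv, hvd, inv_inv]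
        calc d * v = (v * d⁻¹ * v⁻¹) * v := by rw [this]
          _ = v * d⁻¹ := by group
      rw [← mul_smul, e1, mul_smul]
      congr 1
      rw [inv_smul_eq_iff, hd1x]
    · have hvM : v ∈ nS S := fix_one.mp e
      have hvS := h.two_mem (h.two_mul_self hv) hvM
      have hd2 : d⁻¹ * d⁻¹ ∈ (S : Subgroup G) := by
        have h1 : v * (d * v⁻¹ * d⁻¹) ∈ (S : Subgroup G) :=
          mul_mem hvS ((Subgroup.mem_normalizer_iff.mp hd.1 v⁻¹).mp (inv_mem hvS))
        rwa [show v * (d * v⁻¹ * d⁻¹) = v * d * v⁻¹ * d⁻¹ by group, hvd] at h1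
      obtain ⟨j, hj⟩ := El.of_mem_sylow S hd2
      have h2 : (d⁻¹ * d⁻¹ : G) = 1 := by
        refine SelfNorm.eq_one_of_odd_of_pow ?_ hj
        refine hodd.of_dvd_nat (orderOf_dvd_of_pow_eq_one ?_)
        rw [← pow_two, ← pow_mul, mul_comm, pow_mul, inv_pow, pow_orderOf_eq_one, inv_one, one_pow]
      exact hdd (eq_inv_of_mul_eq_one_left h2 |>.trans (inv_inv d))
  let f : V → Y := fun v => ⟨v.1 • QuotientGroup.mk 1, hvY v⟩
  have hfib : ∀ y : Y, Nat.card {v : V // f v = y} = ni S := by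
    rintro ⟨y, hy, hy1⟩
    rw [← h.card_swap (x := QuotientGroup.mk 1) (y := y) (Ne.symm hy1)]
    refine Nat.card_congr
      { toFun := fun v => ⟨v.1.1, v.1.2.1, congrArg Subtype.val v.2⟩
        invFun := fun i => ⟨⟨i.1, i.2.1, ?_⟩, Subtype.ext i.2.2⟩
        left_inv := fun v => rfl
        right_inv := fun i => rfl }
    obtain ⟨g, rfl⟩ := QuotientGroup.mk_surjective y
    exact h.inverting_of_mem (fun hg => hy1 (mk_one_iff.mpr hg))
      (mem_dd.mpr ⟨hd.1, fix_iff.mp hy⟩) i.2.1 i.2.2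
  haveI : Fintype Y := Fintype.ofFinite Y
  have hV : Nat.card V = Nat.card Y * ni S := by
    rw [← Nat.card_congr (Equiv.sigmaFiberEquiv f), Nat.card_sigma,
      Finset.sum_congr rfl fun y _ => hfib y, Finset.sum_const, Finset.card_univ, smul_eq_mul,
      Nat.card_eq_fintype_card]
  have hYF : Nat.card Y = Nat.card {x : G ⧸ nS S // d • x = x} - 1 := by
    show Nat.card {x : G ⧸ nS S | d • x = x ∧ x ≠ QuotientGroup.mk 1} = _
    have hset : {x : G ⧸ nS S | d • x = x ∧ x ≠ QuotientGroup.mk 1} =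
      {x : G ⧸ nS S | d • x = x} \ {QuotientGroup.mk 1} := rfl
    rw [hset, Nat.card_coe_set_eq, Set.ncard_sdiff_singleton_of_mem (show _ ∈ {x : G ⧸ nS S | d • x = x} from hd1x),
      ← Nat.card_coe_set_eq]
    rfl
  rw [hEV, hV, hYF, mul_comm]

/-- A non-identity element of a two-point stabilizer fixes only two points. -/
theorem Dat.card_fix {u : G} (hu : orderOf u = 2) (huM : u ∉ nS S) {d : G} (hd : d ∈ dd S u)
    (hd1 : d ≠ 1) : Nat.card {x : G ⧸ nS S // d • x = x} = 2 := by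
  classical
  set E := Subgroup.centralizer ({d} : Set G) with hE
  let F := {x : G ⧸ nS S // d • x = x}
  have hcard := h.card_cent hu huM hd hd1
  have hEd : dd S u ≤ E := fun e he => mem_cent.mpr (h.dd_comm huM he hd)
  have h1F : d • (QuotientGroup.mk 1 : G ⧸ nS S) = QuotientGroup.mk 1 := fix_one.mpr hd.1
  have huF : d • (QuotientGroup.mk u : G ⧸ nS S) = QuotientGroup.mk u := fix_iff.mpr (mem_dd.mp hd).2
  have hφ2 : 2 ≤ Nat.card F := by
    rw [Nat.succ_le_iff, Finite.one_lt_card_iff_nontrivial]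
    exact ⟨⟨_, h1F⟩, ⟨_, huF⟩, fun e => huM (mk_one_iff.mp (congrArg Subtype.val e).symm)⟩
  letI : MulAction E F :=
    { smul := fun c x => ⟨(c : G) • x.1, by rw [← mul_smul, ← mem_cent.mp c.2, mul_smul, x.2]⟩
      one_smul := fun x => Subtype.ext (one_smul G x.1)
      mul_smul := fun a b x => Subtype.ext (mul_smul (a : G) (b : G) x.1) }
  let x₁ : F := ⟨_, h1F⟩
  have hstab : MulAction.stabilizer E x₁ = (dd S u).subgroupOf E := by
    ext c
    rw [MulAction.mem_stabilizer_iff, Subgroup.mem_subgroupOf]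
    constructor
    · intro e
      exact h.cent_inter huM hd hd1 (fix_one.mp (congrArg Subtype.val e)) (mem_cent.mp c.2)
    · intro hc
      exact Subtype.ext (fix_one.mpr hc.1)
  have horb : (MulAction.orbit E x₁).ncard = Nat.card F - 1 := by
    rw [← MulAction.index_stabilizer, hstab]
    have h1 := ((dd S u).subgroupOf E).card_mul_index
    rw [Nat.card_congr (Subgroup.subgroupOfEquivOfLe hEd).toEquiv, h.card_dd huM, hcard] at h1
    exact Nat.eq_of_mul_eq_mul_left (by have := h.ni_facts.2; omega) h1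
  obtain ⟨R, hR⟩ : ∃ R, (MulAction.orbit E x₁)ᶜ = {R} := by
    refine Set.ncard_eq_one.mp ?_
    rw [Set.ncard_compl, horb]
    change Nat.card F - (Nat.card F - 1) = 1
    omega
  have hR1 : R ≠ x₁ := by
    intro e
    have : R ∈ (MulAction.orbit E x₁)ᶜ := hR ▸ Set.mem_singleton R
    rw [e] at this
    exact this (MulAction.mem_orbit_self x₁)
  have hRfix : ∀ c : E, c • R = R := by
    intro c
    have h1 : c • R ∈ (MulAction.orbit E x₁)ᶜ := by
      intro hmem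
      have h2 : R ∈ MulAction.orbit E x₁ := by
        obtain ⟨b, hb⟩ := hmem
        exact ⟨c⁻¹ * b, show (c⁻¹ * b) • x₁ = R by rw [mul_smul, show b • x₁ = c • R from hb,
          inv_smul_smul]⟩
      have : R ∈ (MulAction.orbit E x₁)ᶜ := hR ▸ Set.mem_singleton R
      exact this h2
    rw [hR] at h1
    exact h1
  obtain ⟨g, hg⟩ := QuotientGroup.mk_surjective R.1
  have hgM : g ∉ nS S := fun hm => hR1 (Subtype.ext (hg.symm.trans (mk_one_iff.mpr hm)))
  have hdg : g⁻¹ * d * g ∈ nS S := fix_iff.mp (hg ▸ R.2)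
  have hgi : g⁻¹ ∉ nS S := fun hm => hgM (by simpa using inv_mem hm)
  have hd' : g⁻¹ * d * g ∈ dd S g⁻¹ := mem_dd.mpr ⟨hdg, by
    rw [show g⁻¹⁻¹ * (g⁻¹ * d * g) * g⁻¹ = d by group]; exact hd.1⟩
  have hd'1 : g⁻¹ * d * g ≠ 1 := fun e => hd1 (by
    calc d = g * (g⁻¹ * d * g) * g⁻¹ := by group
      _ = 1 := by rw [e, mul_one, mul_inv_cancel])
  have hle : Nat.card E ≤ ni S := by
    rw [← h.card_dd hgi]
    refine Nat.card_le_card_of_injective (fun c : E => (⟨g⁻¹ * c * g, ?_⟩ : dd S g⁻¹)) fun a b e => ?_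
    · refine h.cent_inter hgi hd' hd'1 (fix_iff.mp ?_) ?_
      · rw [hg]
        exact congrArg Subtype.val (hRfix c)
      · calc g⁻¹ * c * g * (g⁻¹ * d * g) = g⁻¹ * ((c : G) * d) * g := by group
          _ = g⁻¹ * (d * c) * g := by rw [mem_cent.mp c.2]
          _ = g⁻¹ * d * g * (g⁻¹ * c * g) := by group
    · have e' : g⁻¹ * (a : G) * g = g⁻¹ * (b : G) * g := congrArg Subtype.val e
      exact Subtype.ext (mul_left_cancel (mul_right_cancel e'))
  rw [hcard] at hle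
  have hi := h.ni_facts.2
  have : Nat.card F - 1 ≤ 1 := by
    by_contra hgt
    have : ni S * 2 ≤ ni S * (Nat.card F - 1) := Nat.mul_le_mul_left _ (by omega)
    change ni S * (Nat.card F - 1) ≤ ni S at hle
    omega
  show Nat.card F = 2
  omega

theorem Dat.fix_two {d g : G} (hg : g ∉ nS S) (hd : d ∈ dd S g) (hd1 : d ≠ 1) {k : G}
    (hk : d • (QuotientGroup.mk k : G ⧸ nS S) = QuotientGroup.mk k) :
    k ∈ nS S ∨ (QuotientGroup.mk k : G ⧸ nS S) = QuotientGroup.mk g := by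
  classical
  obtain ⟨u, hu, huM, e⟩ := h.exists_swap hg
  rw [← e]
  by_contra hc
  push Not at hc
  have hd' : d ∈ dd S u := dd_congr e ▸ hd
  have h2 := h.card_fix hu huM hd' hd1
  rw [Nat.card_eq_two_iff' (⟨QuotientGroup.mk 1, fix_one.mpr hd.1⟩ :
    {x : G ⧸ nS S // d • x = x})] at h2
  obtain ⟨w, -, hwu⟩ := h2
  have e1 := hwu ⟨QuotientGroup.mk u, fix_iff.mpr (mem_dd.mp hd').2⟩
    (fun e' => huM (mk_one_iff.mp (congrArg Subtype.val e')))
  have e2 := hwu ⟨QuotientGroup.mk k, hk⟩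
    (fun e' => hc.1 (mk_one_iff.mp (congrArg Subtype.val e')))
  exact hc.2 (congrArg Subtype.val (e2.trans e1.symm))

theorem Dat.regular {x y : G ⧸ nS S} (hx : x ≠ QuotientGroup.mk 1) (hy : y ≠ QuotientGroup.mk 1) :
    ∃! c : cz z, (c : G) • x = y := by
  obtain ⟨g, rfl⟩ := QuotientGroup.mk_surjective x
  obtain ⟨k, rfl⟩ := QuotientGroup.mk_surjective y
  have hg : g ∉ nS S := fun hm => hx (mk_one_iff.mpr hm)
  have hk : k ∉ nS S := fun hm => hy (mk_one_iff.mpr hm)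
  have hD : (Nat.card (dd S g)).Coprime (Nat.card (cz z)) := by rw [h.card_dd hg]; exact h.coprime_ni
  have hD' : (Nat.card (dd S k)).Coprime (Nat.card (cz z)) := by rw [h.card_dd hk]; exact h.coprime_ni
  have hn : dd S g ≤ Subgroup.normalizer (cz z : Set G) := fun d hd =>
    SelfNorm.mem_normalizer_of_conj fun c hc => mem_cent.mpr (h.normalizes hd.1 (mem_cent.mp hc))
  obtain ⟨c, hc, hck⟩ := Coprime.complement_conj hn hD hD' ((h.sup_eq hk).trans (h.sup_eq hg).symm)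
    (Or.inl (Group.isSolvable_of_comm fun a b => Subtype.ext (h.dd_comm hg a.2 b.2)))
  obtain ⟨d, hd, hd1⟩ : ∃ d ∈ dd S k, d ≠ 1 := by
    by_contra hcon
    push Not at hcon
    have h1 : Nat.card (dd S k) = 1 := by
      rw [(Subgroup.eq_bot_iff_forall _).mpr hcon, Subgroup.card_bot]
    rw [h.card_dd hk] at h1
    have := h.ni_facts.2
    omega
  have hd' : c⁻¹ * d * c ∈ dd S g := Coprime.mem_conj_smul.mp (hck ▸ hd)
  refine ⟨⟨c, hc⟩, ?_, ?_⟩
  · show (QuotientGroup.mk (c * g) : G ⧸ nS S) = QuotientGroup.mk k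
    refine (h.fix_two hk hd hd1 ?_).resolve_left fun hm =>
      hg (by simpa using mul_mem (inv_mem (h.cz_le_nS hc)) hm)
    rw [fix_iff, show (c * g)⁻¹ * d * (c * g) = g⁻¹ * (c⁻¹ * d * c) * g by group]
    exact (mem_dd.mp hd').2
  · rintro ⟨b, hb⟩ e
    have e' : (QuotientGroup.mk (b * g) : G ⧸ nS S) = QuotientGroup.mk k := e
    have e2 : (QuotientGroup.mk (c * g) : G ⧸ nS S) = QuotientGroup.mk k := by
      refine (h.fix_two hk hd hd1 ?_).resolve_left fun hm =>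
        hg (by simpa using mul_mem (inv_mem (h.cz_le_nS hc)) hm)
      rw [fix_iff, show (c * g)⁻¹ * d * (c * g) = g⁻¹ * (c⁻¹ * d * c) * g by group]
      exact (mem_dd.mp hd').2
    have h3 : (c⁻¹ * b) • (QuotientGroup.mk g : G ⧸ nS S) = QuotientGroup.mk g := by
      rw [mul_smul, inv_smul_eq_iff]
      exact e'.trans e2.symm
    have h4 := h.eq_one_of_dd_cz hg
      (mem_dd.mpr ⟨h.cz_le_nS (mul_mem (inv_mem hc) hb), fix_iff.mp h3⟩)
      (mem_cent.mp (mul_mem (inv_mem hc) hb))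
    exact Subtype.ext (inv_mul_eq_one.mp h4).symm

theorem Dat.card_points : Nat.card (G ⧸ nS S) = Nat.card (cz z) + 1 := by
  classical
  obtain ⟨u, -, huM⟩ := h.exists_outer
  have hne : (QuotientGroup.mk u : G ⧸ nS S) ≠ QuotientGroup.mk 1 := fun e => huM (mk_one_iff.mp e)
  have h1 : Nat.card (cz z) = Nat.card {x : G ⧸ nS S // x ≠ QuotientGroup.mk 1} := by
    refine Nat.card_congr (Equiv.ofBijective (fun c => ⟨(c : G) • QuotientGroup.mk u, ?_⟩) ⟨?_, ?_⟩)
    · intro e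
      rw [← (fix_one (S := S) (a := (c : G))).mpr (h.cz_le_nS c.2)] at e
      exact hne (smul_left_cancel _ e)
    · intro a b e
      obtain ⟨w, -, hw⟩ := h.regular hne (y := (a : G) • QuotientGroup.mk u) (fun e' => by
        rw [← (fix_one (S := S) (a := (a : G))).mpr (h.cz_le_nS a.2)] at e'
        exact hne (smul_left_cancel _ e'))
      exact (hw a rfl).trans (hw b (congrArg Subtype.val e).symm).symm
    · rintro ⟨y, hy⟩
      obtain ⟨w, hw, -⟩ := h.regular hne hy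
      exact ⟨w, Subtype.ext hw⟩
  rw [h1, show Nat.card {x : G ⧸ nS S // x ≠ QuotientGroup.mk 1} =
    Nat.card ({QuotientGroup.mk 1}ᶜ : Set (G ⧸ nS S)) from rfl, Nat.card_coe_set_eq, Set.ncard_compl,
    Set.ncard_singleton]
  have : 0 < Nat.card (G ⧸ nS S) := Nat.card_pos
  omega

theorem Dat.even_cz : Even (Nat.card (cz z)) :=
  even_iff_two_dvd.mpr (h.orderOf_z ▸ Subgroup.orderOf_dvd_natCard _ (mem_cent.mpr rfl))

theorem Dat.isSolvable_nS : Group.IsSolvable (nS S) := by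
  obtain ⟨u, -, huM⟩ := h.exists_outer
  haveI hn : ((cz z).subgroupOf (nS S)).Normal := by
    refine (Subgroup.normal_subgroupOf_iff_le_normalizer h.cz_le_nS).mpr fun m hm => ?_
    exact SelfNorm.mem_normalizer_of_conj fun c hc => mem_cent.mpr (h.normalizes hm (mem_cent.mp hc))
  haveI : Group.IsNilpotent (cz z) := isNilpotent_cent h.tic h.z1
  let f : dd S u →* nS S ⧸ (cz z).subgroupOf (nS S) :=
    (QuotientGroup.mk' _).comp (Subgroup.inclusion inf_le_left)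
  have hf : Function.Surjective f := by
    intro y
    obtain ⟨m, rfl⟩ := QuotientGroup.mk'_surjective _ y
    obtain ⟨d, hd, e⟩ := h.decomp huM m.2
    exact ⟨⟨d, hd⟩, QuotientGroup.eq.mpr (show d⁻¹ * (m : G) ∈ cz z from e)⟩
  haveI : Group.IsSolvable (dd S u) :=
    Group.isSolvable_of_comm fun a b => Subtype.ext (h.dd_comm huM a.2 b.2)
  haveI : Group.IsSolvable (nS S ⧸ (cz z).subgroupOf (nS S)) := Group.isSolvable_of_surjective hf
  exact Group.isSolvable_of_ker_le_range (Subgroup.inclusion h.cz_le_nS)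
    (QuotientGroup.mk' ((cz z).subgroupOf (nS S))) (by
      intro x hx
      rw [QuotientGroup.ker_mk'] at hx
      exact ⟨⟨x, hx⟩, rfl⟩)

theorem Dat.pretransitive : MulAction.IsMultiplyPretransitive G (G ⧸ nS S) 2 := by
  rw [MulAction.is_two_pretransitive_iff]
  intro a b c d hab hcd
  obtain ⟨p, rfl⟩ := QuotientGroup.mk_surjective a
  obtain ⟨q, rfl⟩ := QuotientGroup.mk_surjective c
  have hb : p⁻¹ • b ≠ QuotientGroup.mk 1 := fun e => hab (by
    rw [inv_smul_eq_iff, smul_one] at e; exact e.symm)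
  have hd : q⁻¹ • d ≠ QuotientGroup.mk 1 := fun e => hcd (by
    rw [inv_smul_eq_iff, smul_one] at e; exact e.symm)
  obtain ⟨⟨k, hk⟩, hkb, -⟩ := h.regular hb hd
  refine ⟨q * k * p⁻¹, ?_, ?_⟩
  · show (QuotientGroup.mk (q * k * p⁻¹ * p) : G ⧸ nS S) = QuotientGroup.mk q
    rw [mk_eq, show (q * k * p⁻¹ * p)⁻¹ * q = k⁻¹ by group]
    exact inv_mem (h.cz_le_nS hk)
  · rw [mul_smul, mul_smul, show k • (p⁻¹ • b) = q⁻¹ • d from hkb, smul_inv_smul]

theorem Dat.three_fix (g : G) (a b c : G ⧸ nS S) (hab : a ≠ b) (hbc : b ≠ c) (hac : a ≠ c)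
    (ha : g • a = a) (hb : g • b = b) (hc : g • c = c) : g = 1 := by
  by_contra hg1
  obtain ⟨p, rfl⟩ := QuotientGroup.mk_surjective a
  obtain ⟨q, rfl⟩ := QuotientGroup.mk_surjective b
  obtain ⟨r, rfl⟩ := QuotientGroup.mk_surjective c
  have e : ∀ {x : G}, g • (QuotientGroup.mk x : G ⧸ nS S) = QuotientGroup.mk x →
      (p⁻¹ * g * p) • (QuotientGroup.mk (p⁻¹ * x) : G ⧸ nS S) = QuotientGroup.mk (p⁻¹ * x) := by
    intro x hx
    rw [fix_iff] at hx ⊢
    rwa [show (p⁻¹ * x)⁻¹ * (p⁻¹ * g * p) * (p⁻¹ * x) = x⁻¹ * g * x by group]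
  have hq : p⁻¹ * q ∉ nS S := fun hm => hab (mk_eq.mpr hm)
  have hgd : p⁻¹ * g * p ∈ dd S (p⁻¹ * q) := mem_dd.mpr ⟨fix_iff.mp ha, fix_iff.mp (e hb)⟩
  have hne : p⁻¹ * g * p ≠ 1 := fun e' => hg1 (by
    calc g = p * (p⁻¹ * g * p) * p⁻¹ := by group
      _ = 1 := by rw [e', mul_one, mul_inv_cancel])
  rcases h.fix_two hq hgd hne (e hc) with hm | hm
  · exact hac (mk_eq.mpr hm)
  · rw [mk_eq, show (p⁻¹ * r)⁻¹ * (p⁻¹ * q) = r⁻¹ * q by group] at hm
    exact hbc (mk_eq.mpr hm).symm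

theorem Dat.isZassenhaus : Cfsg.IsZassenhausGroup G (G ⧸ nS S) := by
  classical
  have hh2 : 2 ≤ Nat.card (cz z) := Nat.le_of_dvd Nat.card_pos (even_iff_two_dvd.mp h.even_cz)
  obtain ⟨u, hu, huM⟩ := h.exists_outer
  refine ⟨⟨fun {g g'} hgg => ?_⟩, h.pretransitive, h.three_fix, ?_, fun N hN htr => ?_⟩
  · obtain ⟨c, hc, hc1⟩ : ∃ c ∈ cz z, c ≠ 1 := ⟨z, mem_cent.mpr rfl, h.z1⟩
    have hne : (QuotientGroup.mk u : G ⧸ nS S) ≠ QuotientGroup.mk 1 := fun e => huM (mk_one_iff.mp e)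
    have e3 : ∀ y : G ⧸ nS S, (g'⁻¹ * g) • y = y := fun y => by
      rw [mul_smul, hgg y, inv_smul_smul]
    have := h.three_fix (g'⁻¹ * g) (QuotientGroup.mk 1) (QuotientGroup.mk u)
      (c • QuotientGroup.mk u) hne.symm ?_ ?_ (e3 _) (e3 _) (e3 _)
    · exact (inv_mul_eq_one.mp this).symm
    · intro e
      obtain ⟨w, -, hw⟩ := h.regular hne hne
      exact hc1 (congrArg Subtype.val ((hw ⟨c, hc⟩ e.symm).trans (hw 1 (by simp)).symm))
    · intro e
      rw [← (fix_one (S := S) (a := c)).mpr (h.cz_le_nS hc)] at e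
      exact hne.symm (smul_left_cancel _ e)
  · obtain ⟨d, hd, e⟩ : ∃ d ∈ dd S u, d ≠ 1 := by
      by_contra hcon
      push Not at hcon
      have h1 : Nat.card (dd S u) = 1 := by
        rw [(Subgroup.eq_bot_iff_forall _).mpr hcon, Subgroup.card_bot]
      rw [h.card_dd huM] at h1
      have := h.ni_facts.2
      omega
    exact ⟨d, e, QuotientGroup.mk 1, QuotientGroup.mk u, fun e' => huM (mk_one_iff.mp e'.symm),
      fix_one.mpr hd.1, fix_iff.mpr (mem_dd.mp hd).2⟩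
  · by_contra hcon
    push Not at hcon
    haveI := hN
    have hbij : Function.Bijective fun x : N => x • (QuotientGroup.mk 1 : G ⧸ nS S) := by
      refine ⟨fun x y e => ?_, fun y => htr.exists_smul_eq _ y⟩
      have h1 : y⁻¹ * x ∈ MulAction.stabilizer N (QuotientGroup.mk 1 : G ⧸ nS S) := by
        rw [MulAction.mem_stabilizer_iff, mul_smul, inv_smul_eq_iff]; exact e
      have h2 : y⁻¹ * x = 1 :=
        Subgroup.mem_bot.mp ((SetLike.ext_iff.mp (hcon _) _).mp h1)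
      exact (inv_mul_eq_one.mp h2).symm
    have hodd : Odd (Nat.card N) := by
      rw [Nat.card_congr (Equiv.ofBijective _ hbij), h.card_points]
      exact h.even_cz.add_one
    haveI := isSolvable_of_odd h.tic hodd
    haveI := h.isSolvable_nS
    let f : nS S →* G ⧸ N := (QuotientGroup.mk' N).comp (nS S).subtype
    have hf : Function.Surjective f := by
      intro y
      obtain ⟨g, rfl⟩ := QuotientGroup.mk'_surjective N y
      obtain ⟨x, hx⟩ := hbij.2 (QuotientGroup.mk g)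
      have hx' : (QuotientGroup.mk ((x : G) * 1) : G ⧸ nS S) = QuotientGroup.mk g := hx
      rw [mul_one, mk_eq] at hx'
      refine ⟨⟨_, hx'⟩, ?_⟩
      show QuotientGroup.mk' N ((x : G)⁻¹ * g) = QuotientGroup.mk' N g
      rw [map_mul, show QuotientGroup.mk' N ((x : G)⁻¹) = 1 from
        (QuotientGroup.eq_one_iff _).mpr (inv_mem x.2), one_mul]
    haveI : Group.IsSolvable (G ⧸ N) := Group.isSolvable_of_surjective hf
    exact h.ns (Group.isSolvable_of_ker_le_range N.subtype (QuotientGroup.mk' N)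
      (by rw [QuotientGroup.ker_mk', Subgroup.range_subtype]))

end Cfsg.Agent.FGS75.TICent
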